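import Groth.Agent.CleanLocusLib.Section
import Groth.Agent.IsoInertiaLib.Inertia
import Groth.Agent.ASt.OpenSub
/-!
The clean locus of a stack with proper inertia is open with quasi-compact inclusion.
-/

set_option autoImplicit false
set_option backward.isDefEq.respectTransparency false
set_option backward.isDefEq.respectTransparency.types false
set_option linter.style.haveILetI false
set_option linter.unusedSectionVars false

universe u

open CategoryTheory CategoryTheory.Limits AlgebraicGeometry Opposite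

namespace Groth.Agent.CleanLocusLib

open _root_.AlgSp Groth.Agent.ASt Groth.Agent.ASp Groth.Agent.IsoAutLib
open Groth.Agent.IsoInertiaLib (autEl autEl_injective exists_autEl fpHom_autEl clMap_autEl)
open Groth.Agent.IsoSmLib (secOf homOf secOf_homOf secOf_injective secOf_map secOf_comp)

variable {S : Scheme.{u}} {𝒳 : AlgSt.Cat S} [h𝒳 : FibCat.IsFibGrpd 𝒳.p]

theorem isClean_of_hom {x η : 𝒳.obj} (φ : x ⟶ η) (h : IsoNat.IsClean η) : IsoNat.IsClean x :=
  fun z ψ s hs => h z (ψ ≫ φ) s hs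

/-- Cleanness of a value read on automorphism groups. -/
theorem isClean_iff_autG {U T : Over S} (y : FibCat.overCat U ⥤ᵇ 𝒳) (g : T ⟶ U) :
    IsoNat.IsClean (y.obj (ov g)) ↔ ∀ (T' : Over S) (h : T' ⟶ T) (a : AutG y (h ≫ g)), a = 1 := by
  constructor
  · intro hc T' h a
    exact AutG.ext (hc _ (y.map (ovHom h rfl)) a.hom a.vert)
  · intro H x φ s hs
    let h : 𝒳.p.obj x ⟶ T := 𝒳.p.map φ ≫ eqToHom ((y.w_obj (ov g)).trans (ov_base g))
    let c : x ⟶ y.obj (ov (h ≫ g)) := facMap (y.map (ovHom h rfl)) φ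
      (eqToHom ((y.w_obj (ov (h ≫ g))).trans (ov_base _)).symm) (by simp [map_w, ov_p_map, h])
    have hc : 𝒳.p.map c = eqToHom ((y.w_obj (ov (h ≫ g))).trans (ov_base _)).symm := map_facMap _ _ _ _
    haveI := isIso_of_vert c hc
    let a : AutG y (h ≫ g) := ⟨inv c ≫ s ≫ c, by
      rw [Functor.map_comp, Functor.map_comp, hs, Category.id_comp, ← Functor.map_comp, IsIso.inv_hom_id,
        CategoryTheory.Functor.map_id]⟩
    have := congrArg AutG.hom (H _ h a)
    change inv c ≫ s ≫ c = 𝟙 _ at this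
    rw [IsIso.inv_comp_eq, Category.comp_id] at this
    rw [← cancel_mono c, this, Category.id_comp]

variable (hpr : AlgSt.RepByAlgSpWith IsProperMor (IsoInertiaLib.ι 𝒳))
  (hi : AlgSt.RepByAlgSpWith (LocP @LocallyOfFinitePresentation) (IsoInertiaLib.ι 𝒳))

include hpr hi in
/-- The clean locus over a scheme. -/
theorem exists_cleanOpen {U : Over S} (y : FibCat.overCat U ⥤ᵇ 𝒳) :
    ∃ V : U.left.Opens, QuasiCompact V.ι ∧
      ∀ {T : Over S} (g : T ⟶ U), IsoNat.IsClean (y.obj (ov g)) ↔ Set.range g.left ⊆ (V : Set U.left) := by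
  obtain ⟨hs, hA, hP⟩ := (repByAlgSpWith_iff.1 hpr).2 U y
  obtain ⟨hs', hA', hP'⟩ := (repByAlgSpWith_iff.1 hi).2 U y
  let P : Sp S := ⟨fib y (IsoInertiaLib.ι 𝒳), hs⟩
  let π : P ⟶ (yon S).obj U := ObjectProperty.homMk (fibπ y (IsoInertiaLib.ι 𝒳))
  let e : (yon S).obj U ⟶ P := homOf (autEl (1 : AutG y (𝟙 U)))
  have he : e ≫ π = 𝟙 _ := by
    refine secOf_injective ?_
    rw [secOf_comp, secOf_homOf]
    exact (congrArg ULift.up (fpHom_autEl _)).trans rfl
  obtain ⟨V, hV, hV'⟩ := exists_trivial_open π e he hA hP hP'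
  refine ⟨V, hV, fun {T} g => Iff.trans ?_ (hV' g).symm⟩
  have hsec : ∀ {T' : Over S} (j : T' ⟶ U), secOf ((yon S).map j ≫ e) = autEl (1 : AutG y j) := fun j => by
    rw [secOf_map, secOf_homOf]
    exact (clMap_autEl j (Category.comp_id j) 1).trans (congrArg autEl (AutG.res_one _ _))
  rw [isClean_iff_autG]
  constructor
  · intro H T' h σ hσ
    have hc : fpHom (secOf σ : ClType (FibCat.fp y (IsoInertiaLib.ι 𝒳)) T') = h ≫ g := by
      have := congrArg secOf hσ
      rw [secOf_comp] at this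
      exact congrArg ULift.down this
    obtain ⟨a, ha⟩ := exists_autEl _ hc
    refine secOf_injective ?_
    rw [hsec, ha, H T' h a]
  · intro H T' h a
    refine autEl_injective ?_
    have hσ : (homOf (autEl a) : (yon S).obj T' ⟶ P) ≫ π = (yon S).map (h ≫ g) := by
      refine secOf_injective ?_
      rw [secOf_comp, secOf_homOf]
      exact (congrArg ULift.up (fpHom_autEl a)).trans rfl
    have := congrArg secOf (H T' h _ hσ)
    rwa [secOf_homOf, hsec] at this

include hpr hi in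
/-- Pullbacks of an object are clean exactly over an open of its base. -/
theorem exists_cleanOpen_obj {T : Over S} (x : 𝒳.obj) (hx : 𝒳.p.obj x = T) :
    ∃ V : T.left.Opens, QuasiCompact V.ι ∧ ∀ {T' : Over S} (g : T' ⟶ T) (x' : 𝒳.obj)
      (hx' : 𝒳.p.obj x' = T') (a : x' ⟶ x), 𝒳.p.map a = eqToHom hx' ≫ g ≫ eqToHom hx.symm →
        (IsoNat.IsClean x' ↔ Set.range g.left ⊆ (V : Set T.left)) := by
  obtain ⟨V, hV, hV'⟩ := exists_cleanOpen hpr hi (objFun x hx)
  refine ⟨V, hV, fun {T'} g x' hx' a ha => Iff.trans ?_ (hV' g)⟩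
  let c : x' ⟶ pull x hx g := facMap (pullHom x hx g) a (eqToHom (hx'.trans (pull_base x hx g).symm))
    (by rw [map_pullHom, ha]; simp)
  haveI := isIso_of_vert c (map_facMap _ _ _ _)
  exact ⟨isClean_of_hom (inv c), isClean_of_hom c⟩

include hpr hi in
/-- The inclusion of the clean locus is quasi-compact. -/
theorem quasiCompact_subIncl
    (hQ : AlgSt.IsOpenSubstack 𝒳 (fun η => IsoNat.IsClean η) Scheme.fppfPrecoverage) :
    AlgSt.RepByAlgSpWith IsQuasiCompactMor (AlgSt.subIncl 𝒳 (fun η => IsoNat.IsClean η)) := by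
  obtain ⟨hiso, hA', him⟩ := hQ
  haveI := hA'.isStack.1
  refine repByAlgSpWith_iff.2 ⟨(repByAlgSpWith_iff.1 him).1, fun U y => ?_⟩
  haveI : FibCat.IsFibGrpd (FibCat.fp y (AlgSt.subIncl 𝒳 (fun η => IsoNat.IsClean η))).p := isFibGrpd_fp
  obtain ⟨hs, hA, hπ⟩ := (repByAlgSpWith_iff.1 him).2 U y
  refine ⟨hs, hA, ?_⟩
  obtain ⟨V, hV, hV'⟩ := exists_cleanOpen hpr hi y
  have sq := hπ.1.isPullback (𝟙 ((yon S).obj U))
  have hopen : IsOpenImmersion (hπ.1.snd (𝟙 ((yon S).obj U))).left := hπ.2 _ _ _ sq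
  generalize hπ.1.snd (𝟙 ((yon S).obj U)) = h at sq hopen
  generalize hπ.1.fst (𝟙 ((yon S).obj U)) = p at sq
  haveI : IsIso p := sq.isIso_fst_of_isIso
  have hw : ∀ (T : Over S) (m : T ⟶ _),
      fpHom (p.hom.app (op T) ⟨m⟩ :
        ClType (FibCat.fp y (AlgSt.subIncl 𝒳 (fun η => IsoNat.IsClean η))) T) = m ≫ h := fun T m => by
    have h1 := ConcreteCategory.congr_hom (NatTrans.congr_app (congrArg InducedCategory.Hom.hom sq.w) (op T)) ⟨m⟩
    exact congrArg ULift.down h1
  have hr : Set.range h.left = Set.range V.ι := by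
    rw [Scheme.Opens.range_ι]
    refine Set.Subset.antisymm ?_ fun t ht => ?_
    · obtain ⟨k', x, hx, φ, hφ, he⟩ := fpEl_exists (p.hom.app (op _) ⟨𝟙 _⟩ :
        ClType (FibCat.fp y (AlgSt.subIncl 𝒳 (fun η => IsoNat.IsClean η))) _)
      obtain rfl : k' = h :=
        (fpHom_fpEl _ _ _ _ _).symm.trans ((congrArg fpHom he.symm).trans ((hw _ (𝟙 _)).trans (Category.id_comp h)))
      haveI : IsIso φ := isIso_of_vert φ hφ
      exact (hV' k').1 (isClean_of_hom φ x.2)
    · let k : Over.mk (V.ι ≫ U.hom) ⟶ U := Over.homMk V.ι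
      have hk : IsoNat.IsClean (y.obj (ov k)) := (hV' k).2 (by
        rintro _ ⟨v, rfl⟩
        exact v.2)
      let c : ClType (FibCat.fp y (AlgSt.subIncl 𝒳 (fun η => IsoNat.IsClean η))) (Over.mk (V.ι ≫ U.hom)) :=
        fpEl (f := AlgSt.subIncl 𝒳 (fun η => IsoNat.IsClean η)) k ⟨y.obj (ov k), hk⟩
          ((y.w_obj (ov k)).trans (ov_base k)) (𝟙 _) (by simp)
      obtain ⟨⟨m⟩, hm⟩ : ∃ m, p.hom.app (op _) m = c := ((isIso_iff_bijective _).1
        (inferInstanceAs (IsIso (((sheafToPresheaf _ _).map p).app (op _))))).2 c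
      have hmh : m ≫ h = k := by rw [← hw _ m, hm]; exact fpHom_fpEl _ _ _ _ _
      refine ⟨m.left ⟨t, ht⟩, ?_⟩
      rw [← Scheme.Hom.comp_apply, ← Over.comp_left, hmh]
      rfl
  have hqc : QuasiCompact h.left := by
    rw [← IsOpenImmersion.isoOfRangeEq_hom_fac h.left V.ι hr]
    exact MorphismProperty.comp_mem @QuasiCompact _ _ inferInstance hV
  refine isQuasiCompactMor_of_repWith ?_
  refine repWith_of_isPullback (g' := inv p) (g := 𝟙 _) (IsPullback.of_horiz_isIso ⟨?_⟩)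
    ((repWith_yon_map_iff _ h).2 hqc)
  rw [IsIso.inv_comp_eq, Category.comp_id, sq.w, Category.comp_id]

end Groth.Agent.CleanLocusLib
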