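import Groth.Agent.DecSec.GrpLocus
import Groth.Agent.ASp.TopFpqc
import Groth.Agent.ASp.MorCancel
import Groth.Agent.ASp.ClosedIdeal
import Groth.Agent.EtAlgEasy.FibFlatLoci
/-!
The open locus of the base over which a proper space with a section is that section.
-/

set_option autoImplicit false
set_option backward.isDefEq.respectTransparency false
set_option backward.isDefEq.respectTransparency.types false
set_option linter.style.haveILetI false
set_option linter.unusedSectionVars false

universe u

open CategoryTheory CategoryTheory.Limits AlgebraicGeometry Opposite Topology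

namespace Groth.Agent.CleanLocusLib

open _root_.AlgSp Groth.Agent.ASp Groth.Agent.Inf Groth.Agent.DecSec

variable {S : Scheme.{u}} {U : Over S} {P : Sp S} (π : P ⟶ (yon S).obj U) (e : (yon S).obj U ⟶ P)
  (he : e ≫ π = 𝟙 _)

include he in
/-- A section of a separated space is a closed immersion. -/
theorem closedImmersion_section (hsep : IsSeparatedMor π) : RepWith @IsClosedImmersion e := by
  obtain ⟨Γ, m, h, e2, -⟩ := exists_graph e π
  haveI : IsIso (e ≫ π) := by rw [he]; infer_instance
  haveI : IsIso (pullback.snd (e ≫ π) π) := (IsPullback.of_hasPullback (e ≫ π) π).isIso_snd_of_isIso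
  rw [← e2]
  exact repWith_comp (repWith_of_isPullback h hsep) (repWith_of_isIso _)

/-- The points off the section or where the space is ramified. -/
def Bad : Set (Points P) :=
  {z | z ∈ Set.range (Points.map e) ∧ IsUnramNbhd π z}ᶜ

/-- Over `g` the only sections are those of `e`. -/
def TrivOver {T : Over S} (g : T ⟶ U) : Prop :=
  ∀ (T' : Over S) (h : T' ⟶ T) (σ : (yon S).obj T' ⟶ P),
    σ ≫ π = (yon S).map (h ≫ g) → σ = (yon S).map (h ≫ g) ≫ e

variable (hP : IsAlgSpace P) (hpr : IsProperMor π) (hfp : LocP @LocallyOfFinitePresentation π)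

include hfp in
theorem lfp_left {E : Over S} {b : (yon S).obj E ⟶ P} {k : E ⟶ U} (hb : RepWith @Etale b)
    (hk : b ≫ π = (yon S).map k) : LocallyOfFinitePresentation k.left :=
  hfp b (𝟙 _) k hb (repWith_id _ U) (hk.trans (Category.comp_id _).symm)

include he hP hpr hfp in
/-- The preimage in a chart of the good points. -/
theorem chart_section {E : Over S} {b : (yon S).obj E ⟶ P} {k : E ⟶ U} (hb : RepWith @Etale b)
    (hk : b ≫ π = (yon S).map k) :
    ∃ (G : Over S) (r : G ⟶ E) (q : G ⟶ U), (yon S).map r ≫ b = (yon S).map q ≫ e ∧ r ≫ k = q ∧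
      IsClosedImmersion r.left ∧ LocallyOfFinitePresentation r.left ∧ Etale q.left ∧
      Points.ofPt b ⁻¹' Set.range (Points.map e) = Set.range r.left ∧
      Points.ofPt b ⁻¹' {z | IsUnramNbhd π z} = {x | (k.left.stalkMap x).hom.FormallyUnramified} := by
  have hc := closedImmersion_section π e he hpr.1
  have sq := hc.1.isPullback b
  have hr : IsClosedImmersion (hc.1.snd b).left := hc.2 _ _ _ sq
  generalize hc.1.snd b = r at sq hr
  generalize hc.1.fst b = q₀ at sq
  obtain ⟨q, rfl⟩ := (yon S).map_surjective q₀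
  have hq : Etale q.left := hb.2 _ _ _ sq.flip
  have hw : r ≫ k = q := (yon S).map_injective (by
    rw [Functor.map_comp, ← hk, ← Category.assoc, ← sq.w, Category.assoc, he, Category.comp_id])
  haveI := lfp_left π hfp hb hk
  have hrfp : LocallyOfFinitePresentation r.left :=
    locallyOfFinitePresentation_of_comp r.left k.left (by rw [← Over.comp_left, hw]; haveI := hq; infer_instance)
      inferInstance
  refine ⟨_, r, q, sq.w.symm, hw, hr, hrfp, hq, ?_, ?_⟩
  · ext x
    constructor
    · rintro ⟨u, hu⟩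
      obtain ⟨w, -, hw'⟩ := points_exists_of_isPullback sq u (Points.schemeHomeo E x)
        (hu.trans (Points.ofPt_eq_map_ofScheme b x))
      obtain ⟨g, rfl⟩ := (Points.schemeHomeo _).surjective w
      exact ⟨g, (Points.schemeHomeo E).injective ((Points.map_yon_map_apply r g).symm.trans hw')⟩
    · rintro ⟨g, rfl⟩
      refine ⟨Points.schemeHomeo U (q.left g), ?_⟩
      rw [← ofPt_yon_map_comp r b g, ← sq.w, ofPt_yon_map_comp]
      exact (Points.ofPt_eq_map_ofScheme e _).symm
  · ext x
    exact isUnramNbhd_iff_of_chart (X := ⟨P, hP⟩) (Y := ⟨_, IsAlgSpace.yon_obj U⟩) (f := ObjectProperty.homMk π)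
      hpr.2.1.1 hb (repWith_id _ U) (hk.trans (Category.comp_id _).symm) x

include hP hpr in
theorem isClosed_bad (hsep : RepWith @IsClosedImmersion e) {E : Over S} {p : (yon S).obj E ⟶ P}
    (hpe : RepWith @Etale p) (hps : RepWith @Surjective p) {G : Over S} {r : G ⟶ E} {q : G ⟶ U} {k : E ⟶ U}
    (hw : r ≫ k = q) (hr : IsClosedImmersion r.left) (hq : Etale q.left)
    (h₁ : Points.ofPt p ⁻¹' Set.range (Points.map e) = Set.range r.left)
    (h₂ : Points.ofPt p ⁻¹' {z | IsUnramNbhd π z} = {x | (k.left.stalkMap x).hom.FormallyUnramified})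
    [LocallyOfFiniteType k.left] :
    IsClosed (Bad π e) ∧ ∃ (R : G.left.Opens), IsOpenImmersion (R.ι ≫ r.left) ∧
      Points.ofPt p ⁻¹' (Bad π e)ᶜ = Set.range (R.ι ≫ r.left) := by
  let O : E.left.Opens := ⟨{x | (k.left.stalkMap x).hom.FormallyUnramified},
    FlatLocus.isOpen_formallyUnramified_stalkMap k.left⟩
  haveI := hr
  haveI : FormallyUnramified (O.ι ≫ k.left) := by
    choose W hW hW' using fun x : O => (FlatLocus.exists_formallyUnramified_nhd_iff k.left x.1).2 x.2
    exact IsZariskiLocalAtSource.of_iSup_eq_top (P := @FormallyUnramified) (fun x => O.ι ⁻¹ᵁ W x)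
      (top_unique fun x _ => TopologicalSpace.Opens.mem_iSup.2 ⟨x, hW x⟩) fun x => by
        haveI : FormallyUnramified ((W x).ι ≫ k.left) := hW' x
        rw [← Category.assoc, ← morphismRestrict_ι, Category.assoc]
        exact MorphismProperty.comp_mem @FormallyUnramified _ _ inferInstance ‹_›
  haveI : Etale (r.left ∣_ O ≫ O.ι ≫ k.left) := by
    rw [morphismRestrict_ι_assoc, ← Over.comp_left, hw]
    haveI := hq
    infer_instance
  haveI : Etale (r.left ∣_ O) := Etale.of_comp (r.left ∣_ O) (O.ι ≫ k.left)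
  haveI : IsOpenImmersion (r.left ∣_ O) := IsOpenImmersion.of_flat_of_mono _
  haveI hopen : IsOpenImmersion ((r.left ⁻¹ᵁ O).ι ≫ r.left) := by
    rw [← morphismRestrict_ι]
    infer_instance
  have key : Points.ofPt p ⁻¹' (Bad π e)ᶜ = Set.range ((r.left ⁻¹ᵁ O).ι ≫ r.left) := by
    rw [Bad, compl_compl]
    change Points.ofPt p ⁻¹' (Set.range (Points.map e) ∩ {z | IsUnramNbhd π z}) = _
    rw [Set.preimage_inter, h₁, h₂]
    ext x
    constructor
    · rintro ⟨⟨g, rfl⟩, hx⟩
      exact ⟨⟨g, hx⟩, rfl⟩
    · rintro ⟨g, rfl⟩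
      exact ⟨⟨g.1, rfl⟩, g.2⟩
  refine ⟨?_, _, hopen, key⟩
  rw [← isOpen_compl_iff, isOpen_iff_chart hpe hps, key]
  exact ((r.left ⁻¹ᵁ O).ι ≫ r.left).isOpenEmbedding.isOpen_range

include he hP hpr hfp in
/-- The locus where a proper space with a section is that section is open and retrocompact. -/
theorem exists_trivial_open :
    ∃ V : U.left.Opens, QuasiCompact V.ι ∧
      ∀ {T : Over S} (g : T ⟶ U), Set.range g.left ⊆ (V : Set U.left) ↔ TrivOver π e g := by
  obtain ⟨E, p, hpe, hps⟩ := hP.atlas
  obtain ⟨k, hk⟩ := (yon S).map_surjective (p ≫ π)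
  obtain ⟨G, r, q, hsq, hw, hr, -, hq, h₁, h₂⟩ := chart_section π e he hP hpr hfp hpe hk.symm
  haveI := lfp_left π hfp hpe hk.symm
  obtain ⟨hbad, R, hR, hgood⟩ := isClosed_bad π e hP hpr (closedImmersion_section π e he hpr.1) hpe hps hw hr hq h₁ h₂
  let Z : Set U.left := Points.schemeHomeo U ⁻¹' (Points.map π '' Bad π e)
  have hZ : IsClosed Z :=
    ((univClosed_closed (IsAlgSpace.yon_obj U) hpr.2.2) _ hbad).preimage (Points.schemeHomeo U).continuous
  let V : U.left.Opens := ⟨Zᶜ, hZ.isOpen_compl⟩
  have hzπ : ∀ {E' : Over S} (b : (yon S).obj E' ⟶ P) (k' : E' ⟶ U) (_ : b ≫ π = (yon S).map k') (x : E'.left),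
      Points.map π (Points.ofPt b x) = Points.schemeHomeo U (k'.left x) := by
    intro E' b k' hb x
    rw [Points.map_ofPt, hb, ← Category.comp_id ((yon S).map k'), ofPt_yon_map_comp]
    rfl
  refine ⟨V, ?_, fun {T} g => ⟨fun hg => ?_, fun hg => ?_⟩⟩
  · refine quasiCompact_iff_forall_isAffineOpen.2 fun A hA => ?_
    refine V.ι.isOpenEmbedding.isInducing.isCompact_iff.2 ?_
    haveI : CompactSpace ↥A := isCompact_iff_compactSpace.1 hA.isCompact
    haveI : IsAffine A.toScheme := hA
    let A' : Over S := Over.mk (A.ι ≫ U.hom)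
    let i : A' ⟶ U := Over.homMk A.ι
    haveI : CompactSpace ↥A'.left := ‹_›
    obtain ⟨E', ε, hε, hεs, hE'⟩ := hpr.2.1.2 (IsAlgSpace.yon_obj A') isQuasiCompactSp_yon ((yon S).map i) _ _
      (IsPullback.of_hasPullback π ((yon S).map i))
    haveI : CompactSpace ↥E'.left := hE'
    obtain ⟨kA, hkA⟩ := (yon S).map_surjective (ε ≫ pullback.snd π ((yon S).map i))
    let b := ε ≫ pullback.fst π ((yon S).map i)
    have hb : RepWith @Etale b := repWith_comp hε (repWith_of_isPullback (IsPullback.of_hasPullback π _).flip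
      ((repWith_yon_map_iff _ i).2 (inferInstanceAs (Etale A.ι))))
    have hbk : b ≫ π = (yon S).map (kA ≫ i) := by
      rw [Category.assoc, pullback.condition, ← Category.assoc, ← hkA, Functor.map_comp]
    haveI := lfp_left π hfp hb hbk
    haveI : LocallyOfFinitePresentation kA.left :=
      locallyOfFinitePresentation_of_comp kA.left i.left
        (inferInstanceAs (LocallyOfFinitePresentation (kA ≫ i).left)) (inferInstanceAs (LocallyOfFiniteType A.ι))
    haveI : IsAffine A'.left := hA
    haveI : QuasiCompact kA.left := (quasiCompact_iff_compactSpace kA.left).2 hE'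
    obtain ⟨G', r', q', -, -, hr', hrfp', -, h₁', h₂'⟩ := chart_section π e he hP hpr hfp hb hbk
    haveI := hr'
    haveI := hrfp'
    have hcon : IsLocallyConstructible (Points.ofPt b ⁻¹' Bad π e) := by
      rw [Bad, Set.preimage_compl]
      change IsLocallyConstructible (Points.ofPt b ⁻¹' (Set.range (Points.map e) ∩ {z | IsUnramNbhd π z}))ᶜ
      rw [Set.preimage_inter, h₁', h₂', ← Set.image_univ]
      exact CMFlatLib.isLocallyConstructible_compl
        ((r'.left.isLocallyConstructible_image IsConstructible.univ.isLocallyConstructible).inter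
          (EtAlgEasy.FibFlat.isLocallyConstructible_unram (kA ≫ i).left))
    have himg : IsConstructible ((kA.left '' (Points.ofPt b ⁻¹' Bad π e))ᶜ) :=
      (CMFlatLib.isLocallyConstructible_compl (kA.left.isLocallyConstructible_image hcon)).isConstructible
    have hVA : A.ι ⁻¹' (V : Set U.left) = (kA.left '' (Points.ofPt b ⁻¹' Bad π e))ᶜ := by
      ext a
      refine not_congr ⟨?_, ?_⟩
      · rintro ⟨z, hz, hza⟩
        obtain ⟨w, hw1, hw2⟩ := points_exists_of_isPullback (IsPullback.of_hasPullback π ((yon S).map i)) z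
          (Points.schemeHomeo A' a) (hza.trans (Points.map_yon_map_apply i a).symm)
        obtain ⟨x, rfl⟩ := surjective_ofPt hεs w
        refine ⟨x, ?_, ?_⟩
        · change Points.ofPt b x ∈ Bad π e
          rw [← Points.map_ofPt, hw1]
          exact hz
        · refine (Points.schemeHomeo A').injective (Eq.trans ?_ hw2)
          rw [Points.map_ofPt, ← hkA, ← Category.comp_id ((yon S).map kA), ofPt_yon_map_comp]
          rfl
      · rintro ⟨x, hx, rfl⟩
        exact ⟨_, hx, hzπ b (kA ≫ i) hbk x⟩
    have hc : IsCompact (A.ι ⁻¹' (V : Set U.left)) := by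
      rw [hVA]
      exact (ConstrPrespectral.isRetrocompact_of_isConstructible himg).isCompact
    have hr2 : V.ι '' (V.ι ⁻¹' (A : Set U.left)) = A.ι '' (A.ι ⁻¹' (V : Set U.left)) := by
      ext x
      constructor
      · rintro ⟨v, hv, rfl⟩
        exact ⟨⟨_, hv⟩, v.2, rfl⟩
      · rintro ⟨a, ha, rfl⟩
        exact ⟨⟨_, ha⟩, a.2, rfl⟩
    change IsCompact (V.ι '' (V.ι ⁻¹' (A : Set U.left)))
    rw [hr2]
    exact hc.image A.ι.continuous
  · intro T' h σ hσ
    have sq := hpe.1.isPullback σ
    obtain ⟨l, hl⟩ := (yon S).map_surjective (hpe.1.fst σ)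
    rw [← hl] at sq
    let a := hpe.1.snd σ
    have hlk : l ≫ k = a ≫ h ≫ g := (yon S).map_injective (by
      rw [Functor.map_comp, hk, reassoc_of% sq.w, hσ, Functor.map_comp (yon S) a])
    haveI : IsOpenImmersion (R.ι ≫ r.left) := hR
    have hmem : Set.range l.left ⊆ Set.range (R.ι ≫ r.left) := by
      rintro _ ⟨x, rfl⟩
      rw [← hgood]
      refine fun hb => hg ⟨h.left (a.left x), rfl⟩ ⟨_, hb, ?_⟩
      change Points.map π (Points.ofPt p (l.left x)) = Points.schemeHomeo U ((h ≫ g).left (a.left x))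
      rw [hzπ p k hk.symm, ← Scheme.Hom.comp_apply, ← Scheme.Hom.comp_apply, ← Over.comp_left, ← Over.comp_left,
        show l ≫ k = a ≫ h ≫ g from hlk]
    let m' := IsOpenImmersion.lift (R.ι ≫ r.left) l.left hmem
    let m : hpe.1.pullback σ ⟶ G := Over.homMk (m' ≫ R.ι) (by
      rw [← Over.w r, Category.assoc, ← Category.assoc R.ι, IsOpenImmersion.lift_fac_assoc]
      exact Over.w l)
    have hm : m ≫ r = l := Over.OverMorphism.ext ((Category.assoc _ _ _).trans (IsOpenImmersion.lift_fac _ _ _))
    haveI : Epi ((yon S).map a) := epi_of_etale_surjective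
      (repWith_of_isPullback sq hpe) (repWith_of_isPullback sq hps)
    rw [← cancel_epi ((yon S).map a), ← Category.assoc, ← Functor.map_comp]
    have hq' : (yon S).map (m ≫ q) = (yon S).map (a ≫ h ≫ g) := by
      rw [← hw, ← Category.assoc, hm, hlk]
    rw [← hq', Functor.map_comp, Category.assoc, ← hsq, ← Category.assoc, ← Functor.map_comp, hm]
    exact sq.w.symm
  · rintro _ ⟨t, rfl⟩ ⟨z, hz, hzt⟩
    let g₁ := (yon S).map g
    have hW : IsAlgSpace (pullback π g₁) :=
      isAlgSpace_pullback (IsAlgSpace.yon_obj U).diag hP (IsAlgSpace.yon_obj T) π g₁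
    let s : (yon S).obj T ⟶ pullback π g₁ := pullback.lift (g₁ ≫ e) (𝟙 _)
      (by rw [Category.assoc, he, Category.comp_id, Category.id_comp])
    have hone : ∀ {T' : Over S} (τ : (yon S).obj T' ⟶ pullback π g₁), τ ≫ pullback.snd π g₁ ≫ s = τ := by
      intro T' τ
      obtain ⟨h, hh⟩ := (yon S).map_surjective (τ ≫ pullback.snd π g₁)
      rw [← Category.assoc, ← hh]
      refine pullback.hom_ext ?_ ?_
      · rw [Category.assoc, pullback.lift_fst, ← Category.assoc]
        refine Eq.trans ?_ (hg T' h (τ ≫ pullback.fst π g₁) ?_).symm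
        · rw [Functor.map_comp]
        · rw [Category.assoc, pullback.condition, ← Category.assoc, ← hh, Functor.map_comp]
      · rw [Category.assoc, pullback.lift_snd, Category.comp_id, hh]
    haveI : IsIso (pullback.snd π g₁) := ⟨s, by
      refine ObjectProperty.hom_ext _ (NatTrans.ext (funext fun T' => ?_))
      ext ξ
      obtain ⟨τ, rfl⟩ := ((J S).uliftYonedaEquiv.{u+1} (X := T'.unop) (F := pullback π g₁)).surjective ξ
      have := congrArg (fun m => (J S).uliftYonedaEquiv.{u+1} m) (hone τ)
      rw [GrothendieckTopology.uliftYonedaEquiv_comp] at this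
      exact this, pullback.lift_snd _ _ _⟩
    obtain ⟨w, hw1, -⟩ := points_exists_of_isPullback (IsPullback.of_hasPullback π g₁) z (Points.schemeHomeo T t)
      (hzt.trans (Points.map_yon_map_apply g t).symm)
    haveI : IsIso s := by
      have : s = inv (pullback.snd π g₁) := by
        rw [← cancel_mono (pullback.snd π g₁), IsIso.inv_hom_id, pullback.lift_snd]
      rw [this]; infer_instance
    have hs : RepWith @Etale s := repWith_of_isIso s
    obtain ⟨t', rfl⟩ := surjective_ofPt (repWith_of_isIso (P := @Surjective) s) w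
    refine hz ⟨?_, ?_⟩
    · refine ⟨Points.schemeHomeo U (g.left t'), ?_⟩
      rw [← hw1, Points.map_ofPt, pullback.lift_fst, ofPt_yon_map_comp, Points.ofPt_eq_map_ofScheme]
      rfl
    · rw [← hw1]
      refine (isUnramNbhd_baseChange_iff (X := ⟨P, hP⟩) (Y := ⟨_, IsAlgSpace.yon_obj U⟩) (X' := ⟨_, hW⟩)
        (Y' := ⟨_, IsAlgSpace.yon_obj T⟩) (f := ObjectProperty.homMk π) hpr.2.1.1 (g := ObjectProperty.homMk g₁)
        (p := ObjectProperty.homMk (pullback.fst π g₁)) (f' := ObjectProperty.homMk (pullback.snd π g₁))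
        (IsPullback.of_hasPullback π g₁) _).1 ?_
      refine (isUnramNbhd_iff_of_chart (X := ⟨_, hW⟩) (Y := ⟨_, IsAlgSpace.yon_obj T⟩)
        (f := ObjectProperty.homMk (pullback.snd π g₁))
        (locP_of_isPullback (IsPullback.of_hasPullback π g₁).flip hP (IsAlgSpace.yon_obj U) (IsAlgSpace.yon_obj T)
          hpr.2.1.1) hs (repWith_id _ T) (k := 𝟙 T) (by
          change s ≫ pullback.snd π g₁ = _
          rw [pullback.lift_snd, CategoryTheory.Functor.map_id, Category.comp_id]) t').2 ?_
      haveI : FormallyUnramified (𝟙 T : T ⟶ T).left := inferInstanceAs (FormallyUnramified (𝟙 T.left))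
      exact FormallyUnramified.stalkMap (𝟙 T : T ⟶ T).left t'

end Groth.Agent.CleanLocusLib
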